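import Cfsg.Agent.H15.M.Co1C.D0

/-! Generated by tools/h15/cs.py. -/

set_option maxRecDepth 100000
set_option maxHeartbeats 0
set_option linter.unusedVariables false

namespace H15.XCo1C

open H16

theorem tc0e_a : allZ2 (entryChk T0 (selR RL0 I0) D0 (nat_lit 255) (nat_lit 240) (nat_lit 15)) (nat_lit 15) (nat_lit 240) = true := by decide +kernel
theorem tc0r : rulesChk Rl c0.Sl RL0 (nat_lit 15) = true := by decide +kernel
theorem ivc : ivChk Rl (nat_lit 15) = true := by decide +kernel
theorem lv0e_0 : allZ (l0.ent P) (nat_lit 0) (nat_lit 239) = true := by decide +kernel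
theorem lv0b : Nat.blt (Pt0 (nat_lit 0)) (nat_lit 4560) = true ∧ Q0 (Pt0 (nat_lit 0)) = 0 ∧ Pt0 (nat_lit 0) = 36 := by decide +kernel
theorem sb0 : H16.allL (ltAll (nat_lit 14)) c0.Sl = true ∧ fixLetters P (nat_lit 14) (Pt0 (nat_lit 0)) = true := by decide +kernel
theorem tc1e_a : allZ2 (entryChk T1 (selR RL1 I1) D1 (nat_lit 127) (nat_lit 126) (nat_lit 14)) (nat_lit 14) (nat_lit 126) = true := by decide +kernel
theorem tc1r : rulesChk Rl c1.Sl RL1 (nat_lit 14) = true := by decide +kernel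
theorem lv1e_0 : allZ (l1.ent P) (nat_lit 0) (nat_lit 125) = true := by decide +kernel
theorem lv1b : Nat.blt (Pt1 (nat_lit 0)) (nat_lit 4560) = true ∧ Q1 (Pt1 (nat_lit 0)) = 0 ∧ Pt1 (nat_lit 0) = 698 := by decide +kernel
theorem sb1 : H16.allL (ltAll (nat_lit 13)) c1.Sl = true ∧ fixLetters P (nat_lit 13) (Pt1 (nat_lit 0)) = true := by decide +kernel
theorem tc2e_a : allZ2 (entryChk T2 (selR RL2 I2) D2 (nat_lit 63) (nat_lit 60) (nat_lit 13)) (nat_lit 13) (nat_lit 60) = true := by decide +kernel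
theorem tc2r : rulesChk Rl c2.Sl RL2 (nat_lit 13) = true := by decide +kernel
theorem lv2e_0 : allZ (l2.ent P) (nat_lit 0) (nat_lit 59) = true := by decide +kernel
theorem lv2b : Nat.blt (Pt2 (nat_lit 0)) (nat_lit 4560) = true ∧ Q2 (Pt2 (nat_lit 0)) = 0 ∧ Pt2 (nat_lit 0) = 987 := by decide +kernel
theorem sb2 : H16.allL (ltAll (nat_lit 12)) c2.Sl = true ∧ fixLetters P (nat_lit 12) (Pt2 (nat_lit 0)) = true := by decide +kernel
theorem tc3e_a : allZ2 (entryChk T3 (selR RL3 I3) D3 (nat_lit 31) (nat_lit 24) (nat_lit 12)) (nat_lit 12) (nat_lit 24) = true := by decide +kernel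
theorem tc3r : rulesChk Rl c3.Sl RL3 (nat_lit 12) = true := by decide +kernel
theorem lv3e_0 : allZ (l3.ent P) (nat_lit 0) (nat_lit 23) = true := by decide +kernel
theorem lv3b : Nat.blt (Pt3 (nat_lit 0)) (nat_lit 4560) = true ∧ Q3 (Pt3 (nat_lit 0)) = 0 ∧ Pt3 (nat_lit 0) = 1051 := by decide +kernel
theorem sb3 : H16.allL (ltAll (nat_lit 11)) c3.Sl = true ∧ fixLetters P (nat_lit 11) (Pt3 (nat_lit 0)) = true := by decide +kernel
theorem tc4e_a : allZ2 (entryChk T4 (selR RL4 I4) D4 (nat_lit 7) (nat_lit 8) (nat_lit 11)) (nat_lit 11) (nat_lit 8) = true := by decide +kernel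
theorem tc4r : rulesChk Rl c4.Sl RL4 (nat_lit 11) = true := by decide +kernel
theorem lv4e_0 : allZ (l4.ent P) (nat_lit 0) (nat_lit 7) = true := by decide +kernel
theorem lv4b : Nat.blt (Pt4 (nat_lit 0)) (nat_lit 4560) = true ∧ Q4 (Pt4 (nat_lit 0)) = 0 ∧ Pt4 (nat_lit 0) = 1143 := by decide +kernel
theorem sb4 : H16.allL (ltAll (nat_lit 8)) c4.Sl = true ∧ fixLetters P (nat_lit 8) (Pt4 (nat_lit 0)) = true := by decide +kernel
theorem tc5e_a : allZ2 (entryChk T5 (selR RL5 I5) D5 (nat_lit 31) (nat_lit 32) (nat_lit 8)) (nat_lit 8) (nat_lit 32) = true := by decide +kernel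
theorem tc5r : rulesChk Rl c5.Sl RL5 (nat_lit 8) = true := by decide +kernel
theorem lv5e_0 : allZ (l5.ent P) (nat_lit 0) (nat_lit 31) = true := by decide +kernel
theorem lv5b : Nat.blt (Pt5 (nat_lit 0)) (nat_lit 4560) = true ∧ Q5 (Pt5 (nat_lit 0)) = 0 ∧ Pt5 (nat_lit 0) = 114 := by decide +kernel
theorem sb5 : H16.allL (ltAll (nat_lit 4)) c5.Sl = true ∧ fixLetters P (nat_lit 4) (Pt5 (nat_lit 0)) = true := by decide +kernel
theorem tc6e_a : allZ2 (entryChk T6 (selR RL6 I6) D6 (nat_lit 15) (nat_lit 16) (nat_lit 4)) (nat_lit 4) (nat_lit 16) = true := by decide +kernel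
theorem tc6r : rulesChk Rl c6.Sl RL6 (nat_lit 4) = true := by decide +kernel
theorem lv6e_0 : allZ (l6.ent P) (nat_lit 0) (nat_lit 15) = true := by decide +kernel
theorem lv6b : Nat.blt (Pt6 (nat_lit 0)) (nat_lit 4560) = true ∧ Q6 (Pt6 (nat_lit 0)) = 0 ∧ Pt6 (nat_lit 0) = 220 := by decide +kernel
theorem sb6 : H16.allL (ltAll (nat_lit 0)) c6.Sl = true ∧ fixLetters P (nat_lit 0) (Pt6 (nat_lit 0)) = true := by decide +kernel
theorem Blt : ltAll (nat_lit 4560) B = 0 := by decide +kernel
theorem mlc : H15.allTo (fun k => H15.isCo (nth 0 Ws k) (nth [] C k)) 15 = true := by decide +kernel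
theorem Ze_0 : allZ (H15.tabEnt Z (nat_lit 4560)) (nat_lit 0) (nat_lit 4560) = true := by decide +kernel
theorem relc_0_0 : allZ (H15.relV C (nat_lit 15) Rl (nat_lit 0)) (nat_lit 0) (nat_lit 24) = true := by decide +kernel
theorem relc_1_0 : allZ (H15.relV C (nat_lit 15) Rl (nat_lit 1)) (nat_lit 0) (nat_lit 24) = true := by decide +kernel
theorem relc_2_0 : allZ (H15.relV C (nat_lit 15) Rl (nat_lit 2)) (nat_lit 0) (nat_lit 24) = true := by decide +kernel
theorem relc_3_0 : allZ (H15.relV C (nat_lit 15) Rl (nat_lit 3)) (nat_lit 0) (nat_lit 24) = true := by decide +kernel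
theorem relc_4_0 : allZ (H15.relV C (nat_lit 15) Rl (nat_lit 4)) (nat_lit 0) (nat_lit 24) = true := by decide +kernel
theorem relc_5_0 : allZ (H15.relV C (nat_lit 15) Rl (nat_lit 5)) (nat_lit 0) (nat_lit 24) = true := by decide +kernel
theorem relc_6_0 : allZ (H15.relV C (nat_lit 15) Rl (nat_lit 6)) (nat_lit 0) (nat_lit 24) = true := by decide +kernel
theorem relc_7_0 : allZ (H15.relV C (nat_lit 15) Rl (nat_lit 7)) (nat_lit 0) (nat_lit 24) = true := by decide +kernel
theorem relc_8_0 : allZ (H15.relV C (nat_lit 15) Rl (nat_lit 8)) (nat_lit 0) (nat_lit 24) = true := by decide +kernel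
theorem relc_9_0 : allZ (H15.relV C (nat_lit 15) Rl (nat_lit 9)) (nat_lit 0) (nat_lit 24) = true := by decide +kernel
theorem relc_10_0 : allZ (H15.relV C (nat_lit 15) Rl (nat_lit 10)) (nat_lit 0) (nat_lit 24) = true := by decide +kernel
theorem relc_11_0 : allZ (H15.relV C (nat_lit 15) Rl (nat_lit 11)) (nat_lit 0) (nat_lit 24) = true := by decide +kernel
theorem relc_12_0 : allZ (H15.relV C (nat_lit 15) Rl (nat_lit 12)) (nat_lit 0) (nat_lit 24) = true := by decide +kernel
theorem relc_13_0 : allZ (H15.relV C (nat_lit 15) Rl (nat_lit 13)) (nat_lit 0) (nat_lit 24) = true := by decide +kernel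
theorem relc_14_0 : allZ (H15.relV C (nat_lit 15) Rl (nat_lit 14)) (nat_lit 0) (nat_lit 24) = true := by decide +kernel
theorem relc_15_0 : allZ (H15.relV C (nat_lit 15) Rl (nat_lit 15)) (nat_lit 0) (nat_lit 24) = true := by decide +kernel
theorem relc_16_0 : allZ (H15.relV C (nat_lit 15) Rl (nat_lit 16)) (nat_lit 0) (nat_lit 24) = true := by decide +kernel
theorem relc_17_0 : allZ (H15.relV C (nat_lit 15) Rl (nat_lit 17)) (nat_lit 0) (nat_lit 24) = true := by decide +kernel
theorem relc_18_0 : allZ (H15.relV C (nat_lit 15) Rl (nat_lit 18)) (nat_lit 0) (nat_lit 24) = true := by decide +kernel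
theorem relc_19_0 : allZ (H15.relV C (nat_lit 15) Rl (nat_lit 19)) (nat_lit 0) (nat_lit 24) = true := by decide +kernel
theorem relc_20_0 : allZ (H15.relV C (nat_lit 15) Rl (nat_lit 20)) (nat_lit 0) (nat_lit 24) = true := by decide +kernel
theorem relc_21_0 : allZ (H15.relV C (nat_lit 15) Rl (nat_lit 21)) (nat_lit 0) (nat_lit 24) = true := by decide +kernel
theorem relc_22_0 : allZ (H15.relV C (nat_lit 15) Rl (nat_lit 22)) (nat_lit 0) (nat_lit 24) = true := by decide +kernel
theorem relc_23_0 : allZ (H15.relV C (nat_lit 15) Rl (nat_lit 23)) (nat_lit 0) (nat_lit 24) = true := by decide +kernel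
theorem relc_24_0 : allZ (H15.relV C (nat_lit 15) Rl (nat_lit 24)) (nat_lit 0) (nat_lit 24) = true := by decide +kernel
theorem relc_25_0 : allZ (H15.relV C (nat_lit 15) Rl (nat_lit 25)) (nat_lit 0) (nat_lit 24) = true := by decide +kernel
theorem relc_26_0 : allZ (H15.relV C (nat_lit 15) Rl (nat_lit 26)) (nat_lit 0) (nat_lit 24) = true := by decide +kernel
theorem relc_27_0 : allZ (H15.relV C (nat_lit 15) Rl (nat_lit 27)) (nat_lit 0) (nat_lit 24) = true := by decide +kernel
theorem relc_28_0 : allZ (H15.relV C (nat_lit 15) Rl (nat_lit 28)) (nat_lit 0) (nat_lit 24) = true := by decide +kernel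
theorem relc_29_0 : allZ (H15.relV C (nat_lit 15) Rl (nat_lit 29)) (nat_lit 0) (nat_lit 24) = true := by decide +kernel
theorem relc_30_0 : allZ (H15.relV C (nat_lit 15) Rl (nat_lit 30)) (nat_lit 0) (nat_lit 24) = true := by decide +kernel
theorem relc_31_0 : allZ (H15.relV C (nat_lit 15) Rl (nat_lit 31)) (nat_lit 0) (nat_lit 24) = true := by decide +kernel
theorem relc_32_0 : allZ (H15.relV C (nat_lit 15) Rl (nat_lit 32)) (nat_lit 0) (nat_lit 24) = true := by decide +kernel
theorem relc_33_0 : allZ (H15.relV C (nat_lit 15) Rl (nat_lit 33)) (nat_lit 0) (nat_lit 24) = true := by decide +kernel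
theorem relc_34_0 : allZ (H15.relV C (nat_lit 15) Rl (nat_lit 34)) (nat_lit 0) (nat_lit 24) = true := by decide +kernel
theorem relc_35_0 : allZ (H15.relV C (nat_lit 15) Rl (nat_lit 35)) (nat_lit 0) (nat_lit 24) = true := by decide +kernel
theorem relc_36_0 : allZ (H15.relV C (nat_lit 15) Rl (nat_lit 36)) (nat_lit 0) (nat_lit 24) = true := by decide +kernel
theorem relc_37_0 : allZ (H15.relV C (nat_lit 15) Rl (nat_lit 37)) (nat_lit 0) (nat_lit 24) = true := by decide +kernel
theorem relc_38_0 : allZ (H15.relV C (nat_lit 15) Rl (nat_lit 38)) (nat_lit 0) (nat_lit 24) = true := by decide +kernel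
theorem relc_39_0 : allZ (H15.relV C (nat_lit 15) Rl (nat_lit 39)) (nat_lit 0) (nat_lit 24) = true := by decide +kernel
theorem relc_40_0 : allZ (H15.relV C (nat_lit 15) Rl (nat_lit 40)) (nat_lit 0) (nat_lit 24) = true := by decide +kernel
theorem relc_41_0 : allZ (H15.relV C (nat_lit 15) Rl (nat_lit 41)) (nat_lit 0) (nat_lit 24) = true := by decide +kernel
theorem relc_42_0 : allZ (H15.relV C (nat_lit 15) Rl (nat_lit 42)) (nat_lit 0) (nat_lit 24) = true := by decide +kernel
theorem relc_43_0 : allZ (H15.relV C (nat_lit 15) Rl (nat_lit 43)) (nat_lit 0) (nat_lit 24) = true := by decide +kernel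
theorem relc_44_0 : allZ (H15.relV C (nat_lit 15) Rl (nat_lit 44)) (nat_lit 0) (nat_lit 24) = true := by decide +kernel
theorem relc_45_0 : allZ (H15.relV C (nat_lit 15) Rl (nat_lit 45)) (nat_lit 0) (nat_lit 24) = true := by decide +kernel
theorem relc_46_0 : allZ (H15.relV C (nat_lit 15) Rl (nat_lit 46)) (nat_lit 0) (nat_lit 24) = true := by decide +kernel
theorem relc_47_0 : allZ (H15.relV C (nat_lit 15) Rl (nat_lit 47)) (nat_lit 0) (nat_lit 24) = true := by decide +kernel
theorem relc_48_0 : allZ (H15.relV C (nat_lit 15) Rl (nat_lit 48)) (nat_lit 0) (nat_lit 24) = true := by decide +kernel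
theorem relc_49_0 : allZ (H15.relV C (nat_lit 15) Rl (nat_lit 49)) (nat_lit 0) (nat_lit 24) = true := by decide +kernel
theorem relc_50_0 : allZ (H15.relV C (nat_lit 15) Rl (nat_lit 50)) (nat_lit 0) (nat_lit 24) = true := by decide +kernel
theorem relc_51_0 : allZ (H15.relV C (nat_lit 15) Rl (nat_lit 51)) (nat_lit 0) (nat_lit 24) = true := by decide +kernel
theorem relc_52_0 : allZ (H15.relV C (nat_lit 15) Rl (nat_lit 52)) (nat_lit 0) (nat_lit 24) = true := by decide +kernel
theorem relc_53_0 : allZ (H15.relV C (nat_lit 15) Rl (nat_lit 53)) (nat_lit 0) (nat_lit 24) = true := by decide +kernel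
theorem relc_54_0 : allZ (H15.relV C (nat_lit 15) Rl (nat_lit 54)) (nat_lit 0) (nat_lit 24) = true := by decide +kernel
theorem relc_55_0 : allZ (H15.relV C (nat_lit 15) Rl (nat_lit 55)) (nat_lit 0) (nat_lit 24) = true := by decide +kernel
theorem relc_56_0 : allZ (H15.relV C (nat_lit 15) Rl (nat_lit 56)) (nat_lit 0) (nat_lit 24) = true := by decide +kernel
theorem relc_57_0 : allZ (H15.relV C (nat_lit 15) Rl (nat_lit 57)) (nat_lit 0) (nat_lit 24) = true := by decide +kernel
theorem relc_58_0 : allZ (H15.relV C (nat_lit 15) Rl (nat_lit 58)) (nat_lit 0) (nat_lit 24) = true := by decide +kernel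
theorem relc_59_0 : allZ (H15.relV C (nat_lit 15) Rl (nat_lit 59)) (nat_lit 0) (nat_lit 24) = true := by decide +kernel
theorem relc_60_0 : allZ (H15.relV C (nat_lit 15) Rl (nat_lit 60)) (nat_lit 0) (nat_lit 24) = true := by decide +kernel
theorem relc_61_0 : allZ (H15.relV C (nat_lit 15) Rl (nat_lit 61)) (nat_lit 0) (nat_lit 24) = true := by decide +kernel
theorem relc_62_0 : allZ (H15.relV C (nat_lit 15) Rl (nat_lit 62)) (nat_lit 0) (nat_lit 24) = true := by decide +kernel
theorem relc_63_0 : allZ (H15.relV C (nat_lit 15) Rl (nat_lit 63)) (nat_lit 0) (nat_lit 24) = true := by decide +kernel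
theorem relc_64_0 : allZ (H15.relV C (nat_lit 15) Rl (nat_lit 64)) (nat_lit 0) (nat_lit 24) = true := by decide +kernel
theorem relc_65_0 : allZ (H15.relV C (nat_lit 15) Rl (nat_lit 65)) (nat_lit 0) (nat_lit 24) = true := by decide +kernel
theorem relc_66_0 : allZ (H15.relV C (nat_lit 15) Rl (nat_lit 66)) (nat_lit 0) (nat_lit 24) = true := by decide +kernel
theorem relc_67_0 : allZ (H15.relV C (nat_lit 15) Rl (nat_lit 67)) (nat_lit 0) (nat_lit 24) = true := by decide +kernel
theorem relc_68_0 : allZ (H15.relV C (nat_lit 15) Rl (nat_lit 68)) (nat_lit 0) (nat_lit 24) = true := by decide +kernel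
theorem relc_69_0 : allZ (H15.relV C (nat_lit 15) Rl (nat_lit 69)) (nat_lit 0) (nat_lit 24) = true := by decide +kernel
theorem relc_70_0 : allZ (H15.relV C (nat_lit 15) Rl (nat_lit 70)) (nat_lit 0) (nat_lit 24) = true := by decide +kernel
theorem relc_71_0 : allZ (H15.relV C (nat_lit 15) Rl (nat_lit 71)) (nat_lit 0) (nat_lit 24) = true := by decide +kernel
theorem relc_72_0 : allZ (H15.relV C (nat_lit 15) Rl (nat_lit 72)) (nat_lit 0) (nat_lit 24) = true := by decide +kernel
theorem relc_73_0 : allZ (H15.relV C (nat_lit 15) Rl (nat_lit 73)) (nat_lit 0) (nat_lit 24) = true := by decide +kernel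
theorem relc_74_0 : allZ (H15.relV C (nat_lit 15) Rl (nat_lit 74)) (nat_lit 0) (nat_lit 24) = true := by decide +kernel
theorem relc_75_0 : allZ (H15.relV C (nat_lit 15) Rl (nat_lit 75)) (nat_lit 0) (nat_lit 24) = true := by decide +kernel
theorem relc_76_0 : allZ (H15.relV C (nat_lit 15) Rl (nat_lit 76)) (nat_lit 0) (nat_lit 24) = true := by decide +kernel
theorem relc_77_0 : allZ (H15.relV C (nat_lit 15) Rl (nat_lit 77)) (nat_lit 0) (nat_lit 24) = true := by decide +kernel
theorem acte_0_0 : allZ (H15.actEnt C Z P (nat_lit 4560) (nat_lit 0)) (nat_lit 0) (nat_lit 2112) = true := by decide +kernel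
theorem acte_0_1 : allZ (H15.actEnt C Z P (nat_lit 4560) (nat_lit 0)) (nat_lit 2112) (nat_lit 2112) = true := by decide +kernel
theorem acte_0_2 : allZ (H15.actEnt C Z P (nat_lit 4560) (nat_lit 0)) (nat_lit 4224) (nat_lit 336) = true := by decide +kernel
theorem acte_1_0 : allZ (H15.actEnt C Z P (nat_lit 4560) (nat_lit 1)) (nat_lit 0) (nat_lit 2112) = true := by decide +kernel
theorem acte_1_1 : allZ (H15.actEnt C Z P (nat_lit 4560) (nat_lit 1)) (nat_lit 2112) (nat_lit 2112) = true := by decide +kernel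
theorem acte_1_2 : allZ (H15.actEnt C Z P (nat_lit 4560) (nat_lit 1)) (nat_lit 4224) (nat_lit 336) = true := by decide +kernel
theorem acte_2_0 : allZ (H15.actEnt C Z P (nat_lit 4560) (nat_lit 2)) (nat_lit 0) (nat_lit 2112) = true := by decide +kernel
theorem acte_2_1 : allZ (H15.actEnt C Z P (nat_lit 4560) (nat_lit 2)) (nat_lit 2112) (nat_lit 2112) = true := by decide +kernel
theorem acte_2_2 : allZ (H15.actEnt C Z P (nat_lit 4560) (nat_lit 2)) (nat_lit 4224) (nat_lit 336) = true := by decide +kernel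
theorem acte_3_0 : allZ (H15.actEnt C Z P (nat_lit 4560) (nat_lit 3)) (nat_lit 0) (nat_lit 2112) = true := by decide +kernel
theorem acte_3_1 : allZ (H15.actEnt C Z P (nat_lit 4560) (nat_lit 3)) (nat_lit 2112) (nat_lit 2112) = true := by decide +kernel
theorem acte_3_2 : allZ (H15.actEnt C Z P (nat_lit 4560) (nat_lit 3)) (nat_lit 4224) (nat_lit 336) = true := by decide +kernel
theorem acte_4_0 : allZ (H15.actEnt C Z P (nat_lit 4560) (nat_lit 4)) (nat_lit 0) (nat_lit 2112) = true := by decide +kernel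
theorem acte_4_1 : allZ (H15.actEnt C Z P (nat_lit 4560) (nat_lit 4)) (nat_lit 2112) (nat_lit 2112) = true := by decide +kernel
theorem acte_4_2 : allZ (H15.actEnt C Z P (nat_lit 4560) (nat_lit 4)) (nat_lit 4224) (nat_lit 336) = true := by decide +kernel
theorem acte_5_0 : allZ (H15.actEnt C Z P (nat_lit 4560) (nat_lit 5)) (nat_lit 0) (nat_lit 2112) = true := by decide +kernel
theorem acte_5_1 : allZ (H15.actEnt C Z P (nat_lit 4560) (nat_lit 5)) (nat_lit 2112) (nat_lit 2112) = true := by decide +kernel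
theorem acte_5_2 : allZ (H15.actEnt C Z P (nat_lit 4560) (nat_lit 5)) (nat_lit 4224) (nat_lit 336) = true := by decide +kernel
theorem acte_6_0 : allZ (H15.actEnt C Z P (nat_lit 4560) (nat_lit 6)) (nat_lit 0) (nat_lit 2112) = true := by decide +kernel
theorem acte_6_1 : allZ (H15.actEnt C Z P (nat_lit 4560) (nat_lit 6)) (nat_lit 2112) (nat_lit 2112) = true := by decide +kernel
theorem acte_6_2 : allZ (H15.actEnt C Z P (nat_lit 4560) (nat_lit 6)) (nat_lit 4224) (nat_lit 336) = true := by decide +kernel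
theorem acte_7_0 : allZ (H15.actEnt C Z P (nat_lit 4560) (nat_lit 7)) (nat_lit 0) (nat_lit 2112) = true := by decide +kernel
theorem acte_7_1 : allZ (H15.actEnt C Z P (nat_lit 4560) (nat_lit 7)) (nat_lit 2112) (nat_lit 2112) = true := by decide +kernel
theorem acte_7_2 : allZ (H15.actEnt C Z P (nat_lit 4560) (nat_lit 7)) (nat_lit 4224) (nat_lit 336) = true := by decide +kernel
theorem acte_8_0 : allZ (H15.actEnt C Z P (nat_lit 4560) (nat_lit 8)) (nat_lit 0) (nat_lit 2112) = true := by decide +kernel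
theorem acte_8_1 : allZ (H15.actEnt C Z P (nat_lit 4560) (nat_lit 8)) (nat_lit 2112) (nat_lit 2112) = true := by decide +kernel
theorem acte_8_2 : allZ (H15.actEnt C Z P (nat_lit 4560) (nat_lit 8)) (nat_lit 4224) (nat_lit 336) = true := by decide +kernel
theorem acte_9_0 : allZ (H15.actEnt C Z P (nat_lit 4560) (nat_lit 9)) (nat_lit 0) (nat_lit 2112) = true := by decide +kernel
theorem acte_9_1 : allZ (H15.actEnt C Z P (nat_lit 4560) (nat_lit 9)) (nat_lit 2112) (nat_lit 2112) = true := by decide +kernel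
theorem acte_9_2 : allZ (H15.actEnt C Z P (nat_lit 4560) (nat_lit 9)) (nat_lit 4224) (nat_lit 336) = true := by decide +kernel
theorem acte_10_0 : allZ (H15.actEnt C Z P (nat_lit 4560) (nat_lit 10)) (nat_lit 0) (nat_lit 2112) = true := by decide +kernel
theorem acte_10_1 : allZ (H15.actEnt C Z P (nat_lit 4560) (nat_lit 10)) (nat_lit 2112) (nat_lit 2112) = true := by decide +kernel
theorem acte_10_2 : allZ (H15.actEnt C Z P (nat_lit 4560) (nat_lit 10)) (nat_lit 4224) (nat_lit 336) = true := by decide +kernel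
theorem acte_11_0 : allZ (H15.actEnt C Z P (nat_lit 4560) (nat_lit 11)) (nat_lit 0) (nat_lit 2112) = true := by decide +kernel
theorem acte_11_1 : allZ (H15.actEnt C Z P (nat_lit 4560) (nat_lit 11)) (nat_lit 2112) (nat_lit 2112) = true := by decide +kernel
theorem acte_11_2 : allZ (H15.actEnt C Z P (nat_lit 4560) (nat_lit 11)) (nat_lit 4224) (nat_lit 336) = true := by decide +kernel
theorem acte_12_0 : allZ (H15.actEnt C Z P (nat_lit 4560) (nat_lit 12)) (nat_lit 0) (nat_lit 2112) = true := by decide +kernel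
theorem acte_12_1 : allZ (H15.actEnt C Z P (nat_lit 4560) (nat_lit 12)) (nat_lit 2112) (nat_lit 2112) = true := by decide +kernel
theorem acte_12_2 : allZ (H15.actEnt C Z P (nat_lit 4560) (nat_lit 12)) (nat_lit 4224) (nat_lit 336) = true := by decide +kernel
theorem acte_13_0 : allZ (H15.actEnt C Z P (nat_lit 4560) (nat_lit 13)) (nat_lit 0) (nat_lit 2112) = true := by decide +kernel
theorem acte_13_1 : allZ (H15.actEnt C Z P (nat_lit 4560) (nat_lit 13)) (nat_lit 2112) (nat_lit 2112) = true := by decide +kernel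
theorem acte_13_2 : allZ (H15.actEnt C Z P (nat_lit 4560) (nat_lit 13)) (nat_lit 4224) (nat_lit 336) = true := by decide +kernel

end H15.XCo1C
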